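import Groth.Agent.Lib.GaDualQ13.Char
import Groth.Agent.Lib.AdeqMod20.Cartan
import Groth.Agent.Lib.FppfPic26.Main

/-!
# Sections of a quotient by the multiplicative group lift when the Picard group is trivial
-/

set_option autoImplicit false
set_option backward.isDefEq.respectTransparency false
set_option backward.isDefEq.respectTransparency.types false
set_option linter.style.haveILetI false
set_option linter.all false
set_option maxHeartbeats 1000000

universe u

open CategoryTheory CategoryTheory.Limits Opposite AlgebraicGeometry TopologicalSpace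
open GrothLib.GaDualQ13 (GmSh gmSec gmVal gmVal_gmSec gmVal_injective gmVal_add gmVal_zero isUnit_gmVal gmVal_map)
open GrothLib.Ample (Cocycle res res_res res_self)

noncomputable section

namespace GrothLib.FppfH90Sch6

local notation "fppf" => Scheme.fppfPrecoverage

variable {X : Scheme.{u}}

/-- An open subscheme of an object over `X`. -/
abbrev OU (Y : Over X) (V : Y.left.Opens) : Over X := Over.mk (V.ι ≫ Y.hom)

/-- The inclusion of an open subscheme. -/
abbrev oι (Y : Over X) (V : Y.left.Opens) : OU Y V ⟶ Y := Over.homMk V.ι rfl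

/-- The inclusion of a smaller open subscheme. -/
abbrev oHom {Y : Over X} {V W : Y.left.Opens} (h : W ≤ V) : OU Y W ⟶ OU Y V :=
  Over.homMk (Y.left.homOfLE h) (by simp)

theorem hom_ext_oι {Y Z : Over X} {V : Y.left.Opens} {p q : Z ⟶ OU Y V} (h : p ≫ oι Y V = q ≫ oι Y V) : p = q :=
  Over.OverMorphism.ext ((cancel_mono V.ι).1 (congrArg CommaMorphism.left h))

theorem oHom_oι {Y : Over X} {V W : Y.left.Opens} (h : W ≤ V) : oHom h ≫ oι Y V = oι Y W :=
  Over.OverMorphism.ext (Y.left.homOfLE_ι h)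

/-- Gluing of sections. -/
theorem exists_glue (B : BigSite.Ab fppf X) {U : Over X} {ι : Type u} {W : ι → Over X} (g : ∀ i, W i ⟶ U)
    (hg : Sieve.generate (Presieve.ofArrows W g) ∈ QuotSh.J fppf X U) (r : ∀ i, B.obj.obj (op (W i)))
    (hr : ∀ i j (Z : Over X) (p : Z ⟶ W i) (q : Z ⟶ W j), p ≫ g i = q ≫ g j →
      B.obj.map p.op (r i) = B.obj.map q.op (r j)) :
    ∃ t, ∀ i, B.obj.map (g i).op t = r i := by
  have hs := B.property
  rw [Presheaf.isSheaf_iff_isSheaf_forget _ _ (forget AddCommGrpCat.{u + 1}), isSheaf_iff_isSheaf_of_type] at hs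
  obtain ⟨t, ht, -⟩ := (Presieve.isSheafFor_arrows_iff _ _).1
    ((Presieve.isSheafFor_iff_generate _).2 (hs _ hg)) r hr
  exact ⟨t, ht⟩

/-- Sections agreeing on a covering agree. -/
theorem sect_ext (B : BigSite.Ab fppf X) {U : Over X} {ι : Type u} {W : ι → Over X} (g : ∀ i, W i ⟶ U)
    (hg : Sieve.generate (Presieve.ofArrows W g) ∈ QuotSh.J fppf X U) {a b : B.obj.obj (op U)}
    (h : ∀ i, B.obj.map (g i).op a = B.obj.map (g i).op b) : a = b := by
  have hs := B.property
  rw [Presheaf.isSheaf_iff_isSheaf_forget _ _ (forget AddCommGrpCat.{u + 1}), isSheaf_iff_isSheaf_of_type] at hs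
  exact ((Presieve.isSheafFor_iff_generate _).2 (hs _ hg)).isSeparatedFor.ext fun Z q hq => by
    obtain ⟨i⟩ := hq
    exact h i

/-- A surjective flat morphism of finite presentation covers. -/
theorem sieve_mem_single {U W : Over X} (h : W ⟶ U) [Flat h.left] [LocallyOfFinitePresentation h.left]
    [Surjective h.left] :
    Sieve.generate (Presieve.ofArrows (fun _ : PUnit.{u + 1} => W) fun _ => h) ∈ QuotSh.J fppf X U := by
  rw [GrothendieckTopology.mem_over_iff]
  refine (Scheme.fppfPrecoverage).toGrothendieck.superset_covering ?_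
    (Precoverage.generate_mem_toGrothendieck (J := fppf)
      (R := Presieve.ofArrows (fun _ : PUnit.{u + 1} => W.left) (fun _ => h.left))
      ((Scheme.ofArrows_mem_precoverage_iff _).2
        ⟨fun x => ⟨PUnit.unit, h.left.surjective x⟩, fun _ => ⟨inferInstance, inferInstance⟩⟩))
  refine (Sieve.generate_le_iff _ _).2 ?_
  rintro Z _ ⟨⟩
  refine (Sieve.overEquiv_iff _ _).2 ⟨W, Over.homMk (𝟙 _) ((Category.id_comp _).trans (Over.w h).symm), h,
    ⟨PUnit.unit⟩, ?_⟩
  ext : 1
  exact Category.id_comp _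

/-- Covering sieves contain flat morphisms of finite presentation through every point. -/
theorem exists_flat_member {Y : Over X} (T : Sieve Y) (hT : T ∈ QuotSh.J fppf X Y) (y : Y.left) :
    ∃ (W : Over X) (h : W ⟶ Y), T h ∧ Flat h.left ∧ LocallyOfFinitePresentation h.left ∧ ∃ w, h.left w = y := by
  obtain ⟨_, ⟨U, hU, rfl⟩, hyU, -⟩ :=
    Y.left.isBasis_affineOpens.exists_subset_of_mem_open (Set.mem_univ y) isOpen_univ
  haveI := hU.isOpenImmersion_fromSpec
  let Y₀ : Over X := Over.mk (hU.fromSpec ≫ Y.hom)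
  let j : Y₀ ⟶ Y := Over.homMk hU.fromSpec rfl
  have hT' := (QuotSh.J fppf X).pullback_stable j hT
  rw [GrothendieckTopology.mem_over_iff] at hT'
  obtain ⟨ι, -, C, hC, hmem⟩ := AdeqMod20.exists_affine_refinement (K := fppf) Γ(Y.left, U)
    (Sieve.overEquiv _ (T.pullback j)) hT'
  obtain ⟨hsurj, hP⟩ := (Scheme.ofArrows_mem_precoverage_iff _).1 hC
  obtain ⟨i, z, hz⟩ := hsurj (hU.primeIdealOf ⟨y, hyU⟩)
  let m : Spec (CommRingCat.of (C i : Type u)) ⟶ Spec Γ(Y.left, U) :=
    Spec.map (CommRingCat.ofHom (algebraMap Γ(Y.left, U) (C i : Type u)))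
  haveI : Flat m := (hP i).1
  haveI : LocallyOfFinitePresentation m := (hP i).2
  let m₀ : Over.mk (m ≫ Y₀.hom) ⟶ Y₀ := Over.homMk m rfl
  have h1 : (T.pullback j) m₀ := (Sieve.overEquiv_iff _ _).1 (hmem i)
  have hl : (m₀ ≫ j).left = m ≫ hU.fromSpec := rfl
  have hz' : (m ≫ hU.fromSpec) z = y := by
    rw [Scheme.Hom.comp_apply, hz]
    exact hU.fromSpec_primeIdealOf ⟨y, hyU⟩
  refine ⟨Over.mk (m ≫ Y₀.hom), m₀ ≫ j, h1, ?_, ?_, ?_⟩
  · rw [hl]; infer_instance
  · rw [hl]; infer_instance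
  · refine ⟨z, ?_⟩
    rw [hl]
    exact hz'

variable {B D : BigSite.Ab fppf X} (f : GmSh X ⟶ B) (g : B ⟶ D) (w : f ≫ g = 0)
  (hC : (ShortComplex.mk f g w).ShortExact)

include hC

theorem f_injective (U : Over X) : Function.Injective (f.hom.app (op U)) :=
  (AdeqMod20.sections_exact hC U).1

theorem g_eq_zero_iff (U : Over X) (t : B.obj.obj (op U)) :
    g.hom.app (op U) t = 0 ↔ ∃ y, f.hom.app (op U) y = t :=
  (AdeqMod20.sections_exact hC U).2 t

/-- Sections of the quotient lift Zariski locally. -/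
theorem exists_lift_open {Y : Over X} (s : D.obj.obj (op Y)) (y : Y.left) :
    ∃ (E : Y.left.Opens) (t : B.obj.obj (op (OU Y E))), y ∈ E ∧
      g.hom.app (op (OU Y E)) t = D.obj.map (oι Y E).op s := by
  haveI : Epi g := hC.epi_g
  haveI : Sheaf.IsLocallySurjective g := (Sheaf.isLocallySurjective_iff_epi' (φ := g)).2 inferInstance
  obtain ⟨W₀, h₀, ⟨r₀, hr₀⟩, hflat, hlfp, w₀', rfl⟩ :=
    exists_flat_member _ (Presheaf.imageSieve_mem _ g.hom s) y
  let h := h₀.left
  obtain ⟨_, ⟨U, hU, rfl⟩, hsU, -⟩ :=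
    Y.left.isBasis_affineOpens.exists_subset_of_mem_open (Set.mem_univ (h w₀')) isOpen_univ
  obtain ⟨_, ⟨W, hW, rfl⟩, hsW, hWU⟩ :=
    W₀.left.isBasis_affineOpens.exists_subset_of_mem_open (show w₀' ∈ h ⁻¹ᵁ U from hsU) (h ⁻¹ᵁ U).2
  haveI : Flat h := hflat
  haveI : LocallyOfFinitePresentation h := hlfp
  obtain ⟨b, hbim, hsb⟩ := hU.exists_basicOpen_le (V := ⟨h '' W, h.isOpenMap _ W.2⟩) ⟨h w₀', w₀', hsW, rfl⟩ hsU
  let U' := Y.left.basicOpen b
  have hU' : IsAffineOpen U' := hU.basicOpen b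
  let W' := W₀.left.basicOpen (h.appLE U W hWU b)
  have hW' : IsAffineOpen W' := hW.basicOpen _
  have hWeq : W' = W ⊓ h ⁻¹ᵁ U' := Scheme.basicOpen_appLE h W U hWU b
  have hWU' : W' ≤ h ⁻¹ᵁ U' := hWeq ▸ inf_le_right
  let φ := h.appLE U' W' hWU'
  have hφ : φ.hom.FaithfullyFlat := by
    letI : Algebra Γ(Y.left, U') Γ(W₀.left, W') := φ.hom.toAlgebra
    haveI : Module.Flat Γ(Y.left, U') Γ(W₀.left, W') := Flat.flat_appLE h hU' hW' hWU'
    show Module.FaithfullyFlat Γ(Y.left, U') Γ(W₀.left, W')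
    refine Module.FaithfullyFlat.of_comap_surjective fun P => ?_
    obtain ⟨z, hzW, hz⟩ := hbim (BCCoh.fromSpec_mem hU' P : hU'.fromSpec P ∈ U')
    have hzU : h z ∈ U' := by rw [hz]; exact BCCoh.fromSpec_mem hU' P
    have hzW' : z ∈ W' := by rw [hWeq]; exact ⟨hzW, hzU⟩
    refine ⟨hW'.primeIdealOf ⟨z, hzW'⟩, (IsAffineOpen.comap_primeIdealOf_appLE U' hU' W' hW' hWU' hzW').trans
      (hU'.fromSpec.isOpenEmbedding.injective ?_)⟩
    rw [hU'.fromSpec_primeIdealOf]; exact hz
  haveI := hU'.isOpenImmersion_fromSpec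
  haveI := hW'.isOpenImmersion_fromSpec
  let v : Spec Γ(W₀.left, W') ⟶ Y.left := hW'.fromSpec ≫ h
  have hv : Spec.map φ ≫ hU'.fromSpec = v := IsAffineOpen.SpecMap_appLE_fromSpec h hU' hW' hWU'
  haveI : Flat v := inferInstanceAs (Flat (hW'.fromSpec ≫ h))
  haveI : LocallyOfFinitePresentation v := inferInstanceAs (LocallyOfFinitePresentation (hW'.fromSpec ≫ h))
  let V : Over X := Over.mk (v ≫ Y.hom)
  let jV : V ⟶ W₀ := Over.homMk hW'.fromSpec (by
    change hW'.fromSpec ≫ W₀.hom = (hW'.fromSpec ≫ h) ≫ Y.hom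
    rw [Category.assoc, Over.w h₀])
  let hV : V ⟶ Y := Over.homMk v rfl
  obtain ⟨r, hr⟩ : ∃ r : B.obj.obj (op V), g.hom.app (op V) r = D.obj.map hV.op s := by
    refine ⟨B.obj.map jV.op r₀, ?_⟩
    refine (NatTrans.naturality_apply g.hom jV.op r₀).trans ((congrArg _ hr₀).trans ?_)
    refine (AdeqMod20.map_comp_app D.obj jV h₀ s).trans ?_
    rfl
  let P2 : Over X := Over.mk (pullback.fst v v ≫ v ≫ Y.hom)
  let p1 : P2 ⟶ V := Over.homMk (pullback.fst v v) rfl
  let p2 : P2 ⟶ V := Over.homMk (pullback.snd v v) (by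
    change pullback.snd v v ≫ v ≫ Y.hom = pullback.fst v v ≫ v ≫ Y.hom
    rw [← reassoc_of% (pullback.condition (f := v) (g := v))])
  have hpV : p1 ≫ hV = p2 ≫ hV := Over.OverMorphism.ext pullback.condition
  obtain ⟨d, hd⟩ := (g_eq_zero_iff f g w hC P2 (B.obj.map p1.op r - B.obj.map p2.op r)).1 (by
    rw [map_sub, NatTrans.naturality_apply, NatTrans.naturality_apply, hr, AdeqMod20.map_comp_app,
      AdeqMod20.map_comp_app, hpV, sub_self])
  let θ : Γ(pullback v v, ⊤) := gmVal d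
  have hθ : IsUnit θ := isUnit_gmVal d
  have happ : ∀ {Z : Scheme.{u}} {Z' : Scheme.{u}} (m : Z ⟶ Z') (e : (⊤ : Z.Opens) ≤ m ⁻¹ᵁ ⊤) (a : Γ(Z', ⊤)),
      m.appLE ⊤ ⊤ e a = m.appTop a := fun m e a => by
    rw [Scheme.Hom.appTop, Scheme.Hom.app_eq_appLE]
    rfl
  have hcoc : ∀ {T : Scheme.{u}} (t₁ t₂ t₃ : T ⟶ Spec Γ(W₀.left, W')) (s₁₂ s₂₃ s₁₃ : T ⟶ pullback v v),
      s₁₂ ≫ pullback.fst v v = t₁ → s₁₂ ≫ pullback.snd v v = t₂ →
      s₂₃ ≫ pullback.fst v v = t₂ → s₂₃ ≫ pullback.snd v v = t₃ →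
      s₁₃ ≫ pullback.fst v v = t₁ → s₁₃ ≫ pullback.snd v v = t₃ →
      s₁₃.appLE ⊤ ⊤ le_top θ = s₁₂.appLE ⊤ ⊤ le_top θ * s₂₃.appLE ⊤ ⊤ le_top θ := by
    intro T t₁ t₂ t₃ s₁₂ s₂₃ s₁₃ a1 a2 b1 b2 c1 c2
    have e12 : t₂ ≫ v = t₁ ≫ v := by rw [← a1, ← a2, Category.assoc, Category.assoc, pullback.condition]
    let To : Over X := Over.mk (t₁ ≫ v ≫ Y.hom)
    let q12 : To ⟶ P2 := Over.homMk s₁₂ (by
      change s₁₂ ≫ pullback.fst v v ≫ v ≫ Y.hom = t₁ ≫ v ≫ Y.hom
      rw [reassoc_of% a1])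
    let q23 : To ⟶ P2 := Over.homMk s₂₃ (by
      change s₂₃ ≫ pullback.fst v v ≫ v ≫ Y.hom = t₁ ≫ v ≫ Y.hom
      rw [reassoc_of% b1, reassoc_of% e12])
    let q13 : To ⟶ P2 := Over.homMk s₁₃ (by
      change s₁₃ ≫ pullback.fst v v ≫ v ≫ Y.hom = t₁ ≫ v ≫ Y.hom
      rw [reassoc_of% c1])
    have key : (GmSh X).obj.map q13.op d = (GmSh X).obj.map q12.op d + (GmSh X).obj.map q23.op d := by
      apply f_injective f g w hC To
      simp only [map_add, NatTrans.naturality_apply]
      erw [hd]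
      simp only [map_sub, AdeqMod20.map_comp_app]
      rw [show q13 ≫ p1 = q12 ≫ p1 from Over.OverMorphism.ext (c1.trans a1.symm),
        show q13 ≫ p2 = q23 ≫ p2 from Over.OverMorphism.ext (c2.trans b2.symm),
        show q23 ≫ p1 = q12 ≫ p2 from Over.OverMorphism.ext (b1.trans a2.symm)]
      abel
    have k := congrArg gmVal key
    rw [gmVal_add, gmVal_map, gmVal_map, gmVal_map] at k
    rw [happ, happ, happ]
    exact k
  let P : Spec Γ(Y.left, U') := hU'.primeIdealOf ⟨h w₀', hsb⟩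
  obtain ⟨x, hx, ⟨q, hq, hqx⟩, hsat⟩ := FppfPic26.exists_coboundary_near φ hφ hU'.fromSpec hv θ hθ hcoc P
  let O : (Spec Γ(W₀.left, W')).Opens := (Spec Γ(W₀.left, W')).basicOpen x
  let E : Y.left.Opens := ⟨v '' O, v.isOpenMap _ O.2⟩
  have hEO : v ⁻¹ᵁ E ≤ O := fun q' hq' => by
    obtain ⟨q'', hq'', e⟩ := hq'
    exact hsat q'' q' e hq''
  let O' : (Spec Γ(W₀.left, W')).Opens := v ⁻¹ᵁ E
  let Oo : Over X := Over.mk (O'.ι ≫ V.hom)
  let iO : Oo ⟶ V := Over.homMk O'.ι rfl
  let vO : Oo ⟶ OU Y E := Over.homMk (v ∣_ E) (by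
    change (v ∣_ E) ≫ E.ι ≫ Y.hom = O'.ι ≫ v ≫ Y.hom
    rw [morphismRestrict_ι_assoc])
  haveI : Flat vO.left := MorphismProperty.of_isPullback (P := @Flat) (isPullback_morphismRestrict v E).flip
    (inferInstance : Flat v)
  haveI : LocallyOfFinitePresentation vO.left :=
    MorphismProperty.of_isPullback (P := @LocallyOfFinitePresentation) (isPullback_morphismRestrict v E).flip
      (inferInstance : LocallyOfFinitePresentation v)
  haveI : Surjective vO.left := ⟨fun e => by
    obtain ⟨q'', hq'', hqe⟩ := e.2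
    refine ⟨⟨q'', q'', hq'', rfl⟩, Subtype.ext ?_⟩
    have h2 := congrArg (fun m => m (⟨q'', q'', hq'', rfl⟩ : O'.toScheme)) (morphismRestrict_ι v E)
    exact (h2.trans hqe :)⟩
  have hxu : IsUnit (iO.left.appTop x) := by
    refine RingedSpace.isUnit_of_isUnit_germ (X := O'.toScheme.toLocallyRingedSpace.toRingedSpace) ⊤ _ fun z hz => ?_
    refine (Scheme.mem_basicOpen O'.toScheme _ z hz).1 ?_
    change z ∈ O'.toScheme.basicOpen (O'.ι.appTop x)
    rw [← Scheme.preimage_basicOpen_top]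
    exact hEO z.2
  let e₁ : (GmSh X).obj.obj (op Oo) := gmSec hxu.unit
  have he₁ : gmVal e₁ = iO.left.appTop x := (gmVal_gmSec _).trans (IsUnit.unit_spec _)
  let r' : B.obj.obj (op Oo) := B.obj.map iO.op r + f.hom.app (op Oo) e₁
  have hinv : ∀ (Z : Over X) (a c : Z ⟶ Oo), a ≫ vO = c ≫ vO → B.obj.map a.op r' = B.obj.map c.op r' := by
    intro Z a c hac
    have hac' : (a.left ≫ iO.left) ≫ v = (c.left ≫ iO.left) ≫ v := by
      have e := congrArg (fun m => CommaMorphism.left m ≫ E.ι) hac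
      simpa [vO, iO, Over.comp_left, Category.assoc] using e
    let m : Z ⟶ P2 := Over.homMk (pullback.lift _ _ hac') (by
      change pullback.lift _ _ hac' ≫ pullback.fst v v ≫ v ≫ Y.hom = Z.hom
      rw [pullback.lift_fst_assoc]
      exact ((Category.assoc _ _ _).trans (congrArg (a.left ≫ ·) (Over.w iO))).trans (Over.w a))
    have m1 : m ≫ p1 = a ≫ iO := Over.OverMorphism.ext (pullback.lift_fst _ _ _)
    have m2 : m ≫ p2 = c ≫ iO := Over.OverMorphism.ext (pullback.lift_snd _ _ _)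
    have hct : ∀ {A B' C' : Scheme.{u}} (k : A ⟶ B') (l : B' ⟶ C') (t : Γ(C', ⊤)),
        k.appTop (l.appTop t) = (k ≫ l).appTop t := fun k l t => by
      rw [Scheme.Hom.comp_appTop]; rfl
    have hval : (GmSh X).obj.map c.op e₁ = (GmSh X).obj.map m.op d + (GmSh X).obj.map a.op e₁ := by
      apply gmVal_injective
      rw [gmVal_add, gmVal_map, gmVal_map, gmVal_map, he₁]
      have hx' := congrArg m.left.appTop hx
      rw [happ, happ, map_mul] at hx'
      have ec : c.left.appTop (iO.left.appTop x) = m.left.appTop ((pullback.snd v v).appTop x) :=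
        (hct _ _ _).trans ((congrArg (fun k : Z.left ⟶ Spec Γ(W₀.left, W') => k.appTop x)
          (pullback.lift_snd _ _ hac').symm).trans (hct m.left (pullback.snd v v) x).symm)
      have ea : a.left.appTop (iO.left.appTop x) = m.left.appTop ((pullback.fst v v).appTop x) :=
        (hct _ _ _).trans ((congrArg (fun k : Z.left ⟶ Spec Γ(W₀.left, W') => k.appTop x)
          (pullback.lift_fst _ _ hac').symm).trans (hct m.left (pullback.fst v v) x).symm)
      exact ec.trans (hx'.trans (congrArg (fun t => _ * t) ea.symm))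
    have hv2 := congrArg (f.hom.app (op Z)) hval
    rw [map_add, NatTrans.naturality_apply, NatTrans.naturality_apply, NatTrans.naturality_apply] at hv2
    erw [hd] at hv2
    rw [map_sub, AdeqMod20.map_comp_app, AdeqMod20.map_comp_app, m1, m2] at hv2
    simp only [r', map_add, AdeqMod20.map_comp_app]
    rw [hv2]
    abel
  obtain ⟨t, ht⟩ := exists_glue B (fun _ : PUnit.{u + 1} => vO) (sieve_mem_single vO) (fun _ => r')
    fun _ _ Z a c hac => hinv Z a c hac
  refine ⟨E, t, ⟨q, hqx, ?_⟩, ?_⟩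
  · have e : hU'.fromSpec (Spec.map φ q) = h w₀' := by rw [hq, hU'.fromSpec_primeIdealOf]
    rw [← e, ← Scheme.Hom.comp_apply, hv]
  · refine sect_ext D (fun _ : PUnit.{u + 1} => vO) (sieve_mem_single vO) fun i => ?_
    refine (NatTrans.naturality_apply g.hom vO.op t).symm.trans ?_
    rw [ht i, map_add, NatTrans.naturality_apply, hr, AdeqMod20.map_comp_app, AdeqMod20.map_comp_app]
    rw [(g_eq_zero_iff f g w hC Oo _).2 ⟨e₁, rfl⟩, add_zero]
    rw [show iO ≫ hV = vO ≫ oι Y E from Over.OverMorphism.ext (morphismRestrict_ι v E).symm]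

/-- The value of a unit section on an open. -/
def valO {Y : Over X} {O : Y.left.Opens} (s : (GmSh X).obj.obj (op (OU Y O))) : Γ(Y.left, O) :=
  O.topIso.hom (gmVal s)

omit hC in
theorem valO_add {Y : Over X} {O : Y.left.Opens} (s t : (GmSh X).obj.obj (op (OU Y O))) :
    valO (s + t) = valO s * valO t := (congrArg O.topIso.hom (gmVal_add s t)).trans (map_mul _ _ _)

omit hC in
theorem valO_injective {Y : Over X} {O : Y.left.Opens} : Function.Injective (valO (Y := Y) (O := O)) :=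
  fun s t h => gmVal_injective ((ConcreteCategory.bijective_of_isIso O.topIso.hom).1 h)

omit hC in
theorem valO_map {Y : Over X} {O O' : Y.left.Opens} (h : O' ≤ O) (s : (GmSh X).obj.obj (op (OU Y O))) :
    valO ((GmSh X).obj.map (oHom h).op s) = res h (valO s) := by
  unfold valO
  rw [gmVal_map]
  change O'.topIso.hom ((Y.left.homOfLE h).appTop (gmVal s)) = (Y.left.presheaf.map (homOfLE h).op).hom (O.topIso.hom.hom (gmVal s))
  rw [Scheme.homOfLE_appTop, ← CommRingCat.comp_apply, ← CommRingCat.comp_apply]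
  congr 2
  simp [Scheme.Opens.topIso, ← Functor.map_comp]

omit hC in
/-- Values of restricted unit sections. -/
theorem valO_resLE {Y S₀ : Over X} (z : S₀ ⟶ Y) {O : Y.left.Opens} {W : S₀.left.Opens} (e : W ≤ z.left ⁻¹ᵁ O)
    (m : OU S₀ W ⟶ OU Y O) (hm : m.left = z.left.resLE O W e) (s : (GmSh X).obj.obj (op (OU Y O))) :
    valO ((GmSh X).obj.map m.op s) = z.left.appLE O W e (valO s) := by
  unfold valO
  rw [gmVal_map, hm]
  change W.topIso.hom (((z.left.resLE O W e).app ⊤) (gmVal s)) = _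
  rw [Scheme.Hom.resLE_app_top]
  exact Iso.inv_hom_id_apply W.topIso _

/-- Sections of the quotient lift when the relevant cocycles are trivial. -/
theorem exists_lift_of_triv {Y : Over X} (s : D.obj.obj (op Y))
    (hTriv : ∀ c : Cocycle Y.left, (∀ {S₀ : Over X} (z : S₀ ⟶ Y),
      (∃ t₀, g.hom.app (op S₀) t₀ = D.obj.map z.op s) → GrothLib.Cube.Triv (c.comap z.left)) → GrothLib.Cube.Triv c) :
    ∃ t, g.hom.app (op Y) t = s := by
  choose U z hxU hz using exists_lift_open f g w hC s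
  have hker : ∀ (i k : Y.left) (W : Y.left.Opens) (hi : W ≤ U i) (hk : W ≤ U k),
      ∃ v, f.hom.app (op (OU Y W)) v = B.obj.map (oHom hi).op (z i) - B.obj.map (oHom hk).op (z k) := by
    intro i k W hi hk
    refine (g_eq_zero_iff f g w hC _ _).1 ?_
    rw [map_sub, NatTrans.naturality_apply, NatTrans.naturality_apply, hz, hz, AdeqMod20.map_comp_app,
      AdeqMod20.map_comp_app, oHom_oι, oHom_oι, sub_self]
  choose v hv using hker
  have hmap : ∀ (F : BigSite.Ab fppf X) {O O' O'' : Y.left.Opens} (h : O' ≤ O) (h' : O'' ≤ O')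
      (a : F.obj.obj (op (OU Y O))),
      F.obj.map (oHom h').op (F.obj.map (oHom h).op a) = F.obj.map (oHom (h'.trans h)).op a := by
    intro F O O' O'' h h' a
    rw [AdeqMod20.map_comp_app]
    refine congrArg (fun m => F.obj.map (Quiver.Hom.op m) a) (hom_ext_oι ?_)
    rw [Category.assoc, oHom_oι, oHom_oι, oHom_oι]
  have hres : ∀ (i k : Y.left) (W W' : Y.left.Opens) (hi : W ≤ U i) (hk : W ≤ U k) (hW : W' ≤ W),
      (GmSh X).obj.map (oHom hW).op (v i k W hi hk) = v i k W' (hW.trans hi) (hW.trans hk) := by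
    intro i k W W' hi hk hW
    apply f_injective f g w hC
    rw [hv, NatTrans.naturality_apply, hv, map_sub, hmap, hmap]
  let U' : Y.left → Y.left.Opens := U
  have hG : ∀ (i k : Y.left) (W : Y.left.Opens) (hi : W ≤ U i) (hk : W ≤ U k),
      res (le_inf hi hk) (valO (v i k (U i ⊓ U k) inf_le_left inf_le_right)) = valO (v i k W hi hk) :=
    fun i k W hi hk => by
    rw [← valO_map (le_inf hi hk), hres i k _ W inf_le_left inf_le_right (le_inf hi hk)]
  let c : Cocycle Y.left :=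
    { ι := Y.left
      D := U
      g := fun i k => valO (v i k (U i ⊓ U k) inf_le_left inf_le_right)
      cover := eq_top_iff.mpr fun x _ => Opens.mem_iSup.mpr ⟨x, hxU x⟩
      self := fun i W hi => by
        rw [hG i i W hi hi]
        have : v i i W hi hi = 0 := f_injective f g w hC _ (by rw [hv, map_zero, sub_self])
        rw [this]
        exact (congrArg W.topIso.hom gmVal_zero).trans (map_one _)
      change := fun i k l W hi hk hl => by
        rw [hG i l W hi hl, hG i k W hi hk, hG k l W hk hl, ← valO_add]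
        refine congrArg valO (f_injective f g w hC _ ?_)
        rw [map_add, hv, hv, hv]
        abel }
  have hcomap : ∀ {S₀ : Over X} (σ : S₀ ⟶ Y),
      (∃ t₀, g.hom.app (op S₀) t₀ = D.obj.map σ.op s) → GrothLib.Cube.Triv (c.comap σ.left) := by
    rintro S₀ σ ⟨t₀, ht₀⟩
    let V : Y.left → S₀.left.Opens := fun i => σ.left ⁻¹ᵁ U i
    let m : ∀ (i : Y.left) (W : S₀.left.Opens), W ≤ V i → (OU S₀ W ⟶ OU Y (U i)) := fun i W e =>
      Over.homMk (σ.left.resLE (U i) W e) (by
        change σ.left.resLE (U i) W e ≫ (U i).ι ≫ Y.hom = W.ι ≫ S₀.hom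
        rw [← Category.assoc, Scheme.Hom.resLE_comp_ι, Category.assoc, Over.w σ])
    have hm : ∀ i W e, m i W e ≫ oι Y (U i) = oι S₀ W ≫ σ := fun i W e =>
      Over.OverMorphism.ext (Scheme.Hom.resLE_comp_ι _ _)
    have hw' : ∀ i, ∃ b, f.hom.app (op (OU S₀ (V i))) b =
        B.obj.map (m i (V i) le_rfl).op (z i) - B.obj.map (oι S₀ (V i)).op t₀ := fun i => by
      refine (g_eq_zero_iff f g w hC _ _).1 ?_
      rw [map_sub, NatTrans.naturality_apply, NatTrans.naturality_apply, hz, ht₀, AdeqMod20.map_comp_app,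
        AdeqMod20.map_comp_app, hm, sub_self]
    choose b hb using hw'
    let d : ∀ i, Γ(S₀.left, ⊤ ⊓ V i) := fun i => res inf_le_right (valO (b i))
    have hmem : d ∈ (c.comap σ.left).sect 1 ⊤ := fun i k W hi hk => by
      have hi' : W ≤ V i := hi.trans inf_le_right
      have hk' : W ≤ V k := hk.trans inf_le_right
      let m₂ : OU S₀ W ⟶ OU Y (U i ⊓ U k) := Over.homMk (σ.left.resLE (U i ⊓ U k) W (le_inf hi' hk')) (by
        change σ.left.resLE (U i ⊓ U k) W _ ≫ (U i ⊓ U k).ι ≫ Y.hom = W.ι ≫ S₀.hom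
        rw [← Category.assoc, Scheme.Hom.resLE_comp_ι, Category.assoc, Over.w σ])
      have e1 : ∀ (j : Y.left) (hj : U i ⊓ U k ≤ U j) (hj' : W ≤ V j),
          oHom hj' ≫ m j (V j) le_rfl = m₂ ≫ oHom hj := fun j hj hj' => hom_ext_oι (by
        rw [Category.assoc, Category.assoc, hm, oHom_oι, ← Category.assoc, oHom_oι]
        exact (Over.OverMorphism.ext (Scheme.Hom.resLE_comp_ι _ _).symm))
      have key : (GmSh X).obj.map (oHom hi').op (b i) =
          (GmSh X).obj.map m₂.op (v i k (U i ⊓ U k) inf_le_left inf_le_right) +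
            (GmSh X).obj.map (oHom hk').op (b k) := by
        apply f_injective f g w hC
        rw [map_add, NatTrans.naturality_apply, NatTrans.naturality_apply, NatTrans.naturality_apply, hb, hb, hv,
          map_sub, map_sub, map_sub]
        simp only [AdeqMod20.map_comp_app, e1 i inf_le_left hi', e1 k inf_le_right hk', oHom_oι]
        abel
      have k' := congrArg valO key
      rw [valO_add, valO_map, valO_map, valO_resLE σ (le_inf hi' hk') m₂ rfl] at k'
      rw [pow_one]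
      refine ((res_res _ _ _).trans k').trans (congrArg₂ (· * ·) ?_ (res_res _ _ _).symm)
      exact (GrothLib.PicDescent.comap_G' c σ.left i k hi' hk').symm
    refine ⟨⟨d, hmem⟩, (c.comap σ.left).locus_eq_top_of_isUnit _ fun i => ?_⟩
    exact ((isUnit_gmVal (b i)).map (V i).topIso.hom.hom).map (res inf_le_right)
  obtain ⟨a, ha⟩ := hTriv c hcomap
  have hu : ∀ i, IsUnit ((U' i).topIso.inv (res (le_inf le_top le_rfl) (a.1 i))) := fun i =>
    (GrothLib.Cube.isUnit_component ha i (le_refl (c.D i))).map _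
  let e : ∀ i, (GmSh X).obj.obj (op (OU Y (U i))) := fun i => gmSec (hu i).unit
  have he : ∀ i, valO (e i) = res (le_inf le_top le_rfl) (a.1 i) := fun i => by
    show valO (gmSec (hu i).unit) = _
    unfold valO
    rw [gmVal_gmSec, IsUnit.unit_spec]
    exact Iso.inv_hom_id_apply (U' i).topIso _
  have hw : ∀ (i k : Y.left) (W : Y.left.Opens) (hi : W ≤ U i) (hk : W ≤ U k),
      (GmSh X).obj.map (oHom hi).op (e i) - (GmSh X).obj.map (oHom hk).op (e k) = v i k W hi hk := by
    intro i k W hi hk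
    rw [sub_eq_iff_eq_add]
    refine valO_injective ?_
    rw [valO_add, valO_map, valO_map, he, he, res_res, res_res, ← hG i k W hi hk]
    have := c.sect_spec a i k (W := W) (le_inf le_top hi) (le_inf le_top hk)
    rw [pow_one] at this
    exact this
  let z' : ∀ i : Y.left, B.obj.obj (op (OU Y (U i))) := fun i => z i - f.hom.app (op (OU Y (U i))) (e i)
  have hcov : Sieve.generate (Presieve.ofArrows (fun i => OU Y (U i)) fun i => oι Y (U i)) ∈ QuotSh.J fppf X Y := by
    haveI : ∀ i : Y.left, IsOpenImmersion (oι Y (U i)).left := fun i => inferInstanceAs (IsOpenImmersion (U i).ι)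
    exact AdeqMod20.mem_J_of_opens_arrows _ fun x => ⟨x, ⟨x, hxU x⟩, rfl⟩
  obtain ⟨t, ht⟩ := exists_glue B _ hcov z' (by
    intro i k Z p q hpq
    have hl : p.left ≫ (U i).ι = q.left ≫ (U k).ι := congrArg CommaMorphism.left hpq
    have hr : Set.range (p.left ≫ (U i).ι) ⊆ Set.range (U i ⊓ U k).ι := by
      rintro _ ⟨y, rfl⟩
      rw [Scheme.Opens.range_ι]
      refine ⟨(p.left y).2, ?_⟩
      rw [hl]
      exact (q.left y).2
    let L : Z ⟶ OU Y (U i ⊓ U k) := Over.homMk (IsOpenImmersion.lift _ _ hr) (by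
      change IsOpenImmersion.lift _ _ hr ≫ (U i ⊓ U k).ι ≫ Y.hom = Z.hom
      rw [IsOpenImmersion.lift_fac_assoc]
      exact (Category.assoc _ _ _).trans (Over.w p))
    have hL : L ≫ oι Y (U i ⊓ U k) = p ≫ oι Y (U i) := Over.OverMorphism.ext (IsOpenImmersion.lift_fac _ _ _)
    have e1 : p = L ≫ oHom inf_le_left := hom_ext_oι (by rw [Category.assoc, oHom_oι, hL])
    have e2 : q = L ≫ oHom inf_le_right := hom_ext_oι (by rw [Category.assoc, oHom_oι, hL, hpq])
    rw [e1, e2, ← AdeqMod20.map_comp_app, ← AdeqMod20.map_comp_app]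
    refine congrArg _ ?_
    rw [map_sub, map_sub, ← NatTrans.naturality_apply, ← NatTrans.naturality_apply,
      sub_eq_sub_iff_sub_eq_sub, ← hv i k (U i ⊓ U k) inf_le_left inf_le_right, ← map_sub,
      hw i k _ inf_le_left inf_le_right])
  refine ⟨t, sect_ext D _ hcov fun i => ?_⟩
  refine (NatTrans.naturality_apply g.hom (oι Y (U i)).op t).symm.trans ?_
  rw [ht i, map_sub, (g_eq_zero_iff f g w hC _ _).2 ⟨e i, rfl⟩, sub_zero]
  exact hz i

/-- Sections of the quotient lift when all invertible modules are trivial. -/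
theorem exists_lift {Y : Over X}
    (hPic : ∀ L : Y.left.Modules, PicF.IsInvertible L → Nonempty (L ≅ Coh.structureModule Y.left))
    (s : D.obj.obj (op Y)) : ∃ t, g.hom.app (op Y) t = s :=
  exists_lift_of_triv f g w hC s fun c _ => (GrothLib.Cube.triv_iff c).2 (hPic _ (c.isInvertible_twist 1))

end GrothLib.FppfH90Sch6
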